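import Mathlib
import Groth.Prelude.Def_SekSuwa2
import Groth.Prelude.Def_Mor2

set_option linter.unusedSectionVars false
set_option linter.unusedVariables false
set_option linter.unusedSimpArgs false
set_option autoImplicit false
set_option linter.style.haveILetI false
set_option maxHeartbeats 400000
set_option linter.unnecessarySimpa false

/-!
# `G_{λ,N}` is finite locally free of degree `N`
-/

noncomputable section

universe u

open CategoryTheory AlgebraicGeometry Polynomial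

namespace Groth.Agent.Lib.Helper6.SekSuwaInj

variable {R : Type u} [CommRing R] {lam : R} {N : ℕ} (h : SekSuwa.DivCond lam N)

theorem coeff_one_add_pow (k : ℕ) :
    ((1 + C lam * X : R[X]) ^ N).coeff k = (N.choose k : R) * lam ^ k := by
  have h1 : (1 + C lam * X : R[X]) ^ N = ((1 + X : R[X]) ^ N).comp (C lam * X) := by
    simp
  rw [h1, comp_C_mul_X_coeff, coeff_one_add_X_pow]

theorem psiPoly_coeff_of_lt (k : ℕ) (hk : N < k) : (SekSuwa.psiPoly lam N h).coeff k = 0 := by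
  have h1 := congrArg (fun p => p.coeff k) (SekSuwa.psiPoly_spec h)
  simp only [coeff_C_mul, coeff_sub, coeff_one_add_pow] at h1
  rw [Nat.choose_eq_zero_of_lt hk, coeff_one, if_neg (by omega)] at h1
  simp only [Nat.cast_zero, zero_mul, sub_zero] at h1
  exact (mem_nonZeroDivisors_iff.mp h.pow_nzd).1 _ h1

theorem psiPoly_coeff_self (hN : 0 < N) : (SekSuwa.psiPoly lam N h).coeff N = 1 := by
  have h1 := congrArg (fun p => p.coeff N) (SekSuwa.psiPoly_spec h)
  simp only [coeff_C_mul, coeff_sub, coeff_one_add_pow] at h1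
  rw [Nat.choose_self, coeff_one, if_neg (by omega)] at h1
  simp only [Nat.cast_one, one_mul, sub_zero] at h1
  have h2 : lam ^ N * ((SekSuwa.psiPoly lam N h).coeff N - 1) = 0 := by
    rw [mul_sub, h1, mul_one, sub_self]
  exact sub_eq_zero.mp ((mem_nonZeroDivisors_iff.mp h.pow_nzd).1 _ h2)

theorem psiPoly_natDegree_le : (SekSuwa.psiPoly lam N h).natDegree ≤ N := by
  rw [natDegree_le_iff_coeff_eq_zero]
  intro k hk
  exact psiPoly_coeff_of_lt h k hk

theorem psiPoly_monic (hN : 0 < N) : (SekSuwa.psiPoly lam N h).Monic :=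
  monic_of_natDegree_le_of_coeff_eq_one N (psiPoly_natDegree_le h) (psiPoly_coeff_self h hN)

theorem psiPoly_natDegree [Nontrivial R] (hN : 0 < N) : (SekSuwa.psiPoly lam N h).natDegree = N :=
  natDegree_eq_of_le_of_coeff_ne_zero (psiPoly_natDegree_le h)
    (by rw [psiPoly_coeff_self h hN]; exact one_ne_zero)

/-- In `R[X]/(P)`, `(1 + λ·root)^N = 1`. -/
theorem root_pow :
    (1 + lam • AdjoinRoot.root (SekSuwa.psiPoly lam N h)) ^ N = 1 := by
  have e := SekSuwa.aeval_psiPoly h (AdjoinRoot.root (SekSuwa.psiPoly lam N h))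
  rw [AdjoinRoot.aeval_eq, AdjoinRoot.mk_self, mul_zero] at e
  rw [Algebra.smul_def]
  exact (sub_eq_zero.mp e.symm)

theorem root_rel (hN : 0 < N) :
    (1 + lam • AdjoinRoot.root (SekSuwa.psiPoly lam N h)) *
      (1 + lam • AdjoinRoot.root (SekSuwa.psiPoly lam N h)) ^ (N - 1) = 1 := by
  rw [← pow_succ', Nat.sub_add_cancel hN, root_pow]

/-- The map from the coordinate ring of `G^(λ)` to `R[X]/(P)`. -/
def toAdjoinRoot₀ (hN : 0 < N) : SekSuwa.A R lam →ₐ[R] AdjoinRoot (SekSuwa.psiPoly lam N h) :=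
  SekSuwa.A.lift R lam (AdjoinRoot.root (SekSuwa.psiPoly lam N h))
    ((1 + lam • AdjoinRoot.root (SekSuwa.psiPoly lam N h)) ^ (N - 1)) (root_rel h hN)

theorem toAdjoinRoot₀_kerGen (hN : 0 < N) : toAdjoinRoot₀ h hN (SekSuwa.kerGen lam N h) = 0 := by
  unfold SekSuwa.kerGen
  rw [← Polynomial.aeval_algHom_apply]
  have : toAdjoinRoot₀ h hN SekSuwa.A.t = AdjoinRoot.root (SekSuwa.psiPoly lam N h) :=
    SekSuwa.A.lift_t _ _ _
  rw [this, AdjoinRoot.aeval_eq, AdjoinRoot.mk_self]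

/-- The map from the coordinate ring of `G_{λ,N}` to `R[X]/(P)`. -/
def toAdjoinRoot (hN : 0 < N) : SekSuwa.AK R lam N h →ₐ[R] AdjoinRoot (SekSuwa.psiPoly lam N h) :=
  Ideal.Quotient.liftₐ (SekSuwa.kerIdeal lam N h) (toAdjoinRoot₀ h hN) (by
    intro a ha
    obtain ⟨c, rfl⟩ := Ideal.mem_span_singleton'.mp ha
    rw [map_mul, toAdjoinRoot₀_kerGen, mul_zero])

theorem toAdjoinRoot_t (hN : 0 < N) :
    toAdjoinRoot h hN SekSuwa.AK.t = AdjoinRoot.root (SekSuwa.psiPoly lam N h) := by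
  change toAdjoinRoot₀ h hN SekSuwa.A.t = _
  exact SekSuwa.A.lift_t _ _ _

/-- The inverse map. -/
def ofAdjoinRoot : AdjoinRoot (SekSuwa.psiPoly lam N h) →ₐ[R] SekSuwa.AK R lam N h :=
  AdjoinRoot.liftAlgHom (SekSuwa.psiPoly lam N h) (Algebra.ofId R (SekSuwa.AK R lam N h))
    SekSuwa.AK.t (by
      have := SekSuwa.AK.aeval_t (R := R) (lam := lam) (N := N) (h := h)
      rw [Polynomial.aeval_def] at this
      exact this)

theorem ofAdjoinRoot_root :
    ofAdjoinRoot h (AdjoinRoot.root (SekSuwa.psiPoly lam N h)) = SekSuwa.AK.t :=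
  AdjoinRoot.liftAlgHom_root _ _ _ _

theorem AK_u_mul_inv :
    (1 + lam • (SekSuwa.AK.t : SekSuwa.AK R lam N h)) * SekSuwa.AK.inv = 1 := by
  have e := congrArg (SekSuwa.AK.mkHom R lam N h) (SekSuwa.A.u_mul_inv (R := R) (lam := lam))
  rw [map_mul, map_one, SekSuwa.A.u, map_add, map_one, map_smul] at e
  exact e

theorem AK_inv_eq (hN : 0 < N) :
    (SekSuwa.AK.inv : SekSuwa.AK R lam N h) = (1 + lam • SekSuwa.AK.t) ^ (N - 1) := by
  have h1 := AK_u_mul_inv h
  have h2 := SekSuwa.AK.u_pow (R := R) (lam := lam) (N := N) (h := h)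
  calc (SekSuwa.AK.inv : SekSuwa.AK R lam N h)
      = SekSuwa.AK.inv * (1 + lam • SekSuwa.AK.t) ^ N := by rw [h2, mul_one]
    _ = SekSuwa.AK.inv * ((1 + lam • SekSuwa.AK.t) * (1 + lam • SekSuwa.AK.t) ^ (N - 1)) := by
        rw [← pow_succ', Nat.sub_add_cancel hN]
    _ = ((1 + lam • SekSuwa.AK.t) * SekSuwa.AK.inv) * (1 + lam • SekSuwa.AK.t) ^ (N - 1) := by ring
    _ = (1 + lam • SekSuwa.AK.t) ^ (N - 1) := by rw [h1, one_mul]

/-- The coordinate ring of `G_{λ,N}` is `R[X]/(P)`. -/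
def equivAdjoinRoot (hN : 0 < N) :
    SekSuwa.AK R lam N h ≃ₐ[R] AdjoinRoot (SekSuwa.psiPoly lam N h) :=
  AlgEquiv.ofAlgHom (toAdjoinRoot h hN) (ofAdjoinRoot h)
    (by
      apply AdjoinRoot.algHom_ext
      rw [AlgHom.comp_apply, ofAdjoinRoot_root, toAdjoinRoot_t]
      rfl)
    (by
      have ht : ((ofAdjoinRoot h).comp (toAdjoinRoot h hN)) SekSuwa.AK.t = SekSuwa.AK.t := by
        rw [AlgHom.comp_apply, toAdjoinRoot_t, ofAdjoinRoot_root]
      apply SekSuwa.AK.algHom_ext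
      · rw [ht]; rfl
      · rw [AK_inv_eq h hN, map_pow, map_add, map_one, map_smul, ht]
        rfl)

end Groth.Agent.Lib.Helper6.SekSuwaInj
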