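import Mathlib
import Groth.Prelude.Def_SekSuwa2
import Groth.Prelude.Def_Mor2
import Groth.Agent.Lib.Helper6.SekSuwaInj.FinFree

set_option linter.unusedSectionVars false
set_option linter.unusedVariables false
set_option linter.unusedSimpArgs false
set_option autoImplicit false
set_option linter.style.haveILetI false
set_option maxHeartbeats 400000
set_option linter.unnecessarySimpa false

noncomputable section

universe u

open CategoryTheory AlgebraicGeometry Polynomial

namespace Groth.Agent.Lib.Helper6.SekSuwaInj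

variable {R : Type u} [CommRing R] {lam : R} {N : ℕ} (h : SekSuwa.DivCond lam N)

theorem free_AK (hN : 0 < N) : Module.Free R (SekSuwa.AK R lam N h) :=
  haveI := (psiPoly_monic h hN).free_adjoinRoot
  Module.Free.of_equiv (equivAdjoinRoot h hN).symm.toLinearEquiv

theorem finite_AK (hN : 0 < N) : Module.Finite R (SekSuwa.AK R lam N h) :=
  haveI : Module.Finite R (AdjoinRoot (SekSuwa.psiPoly lam N h)) :=
    (AdjoinRoot.powerBasis' (psiPoly_monic h hN)).finite
  Module.Finite.equiv (equivAdjoinRoot h hN).symm.toLinearEquiv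

theorem finrank_AK [Nontrivial R] (hN : 0 < N) : Module.finrank R (SekSuwa.AK R lam N h) = N := by
  rw [LinearEquiv.finrank_eq (equivAdjoinRoot h hN).toLinearEquiv,
    (AdjoinRoot.powerBasis' (psiPoly_monic h hN)).finrank, AdjoinRoot.powerBasis'_dim,
    psiPoly_natDegree h hN]

theorem isFinLocFreeOfDeg (hN : 0 < N) :
    Mor2.IsFinLocFreeOfDeg N (SekSuwa.GK R lam N h).hom := by
  haveI := free_AK h hN
  haveI := finite_AK h hN
  haveI : Module.FinitePresentation R (SekSuwa.AK R lam N h) :=
    Module.finitePresentation_of_projective R _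
  change Mor2.IsFinLocFreeOfDeg N
    (Spec.map (CommRingCat.ofHom (algebraMap R (SekSuwa.AK R lam N h))))
  refine ⟨⟨?_, ?_, ?_⟩, ?_⟩
  · rw [IsFinite.SpecMap_iff]
    exact RingHom.finite_algebraMap.mpr inferInstance
  · rw [Flat.SpecMap_iff]
    exact RingHom.flat_algebraMap_iff.mpr inferInstance
  · rw [HasRingHomProperty.Spec_iff (P := @LocallyOfFinitePresentation)]
    exact RingHom.finitePresentation_algebraMap.mpr inferInstance
  · intro y
    haveI : Nontrivial R := by
      haveI : y.asIdeal.IsPrime := PrimeSpectrum.isPrime y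
      exact ⟨⟨0, 1, fun h01 => (Ideal.IsPrime.ne_top inferInstance : y.asIdeal ≠ ⊤)
        (Ideal.eq_top_of_isUnit_mem _ (by rw [← h01]; exact y.asIdeal.zero_mem) isUnit_one)⟩⟩
    have h1 := Scheme.Hom.finrank_SpecMap_algebraMap R (SekSuwa.AK R lam N h) y
    rw [Module.rankAtStalk_eq_finrank_of_free] at h1
    rw [h1]
    exact finrank_AK h hN

end Groth.Agent.Lib.Helper6.SekSuwaInj
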