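import Mathlib
import Groth.Prelude.Def_SekSuwa2

set_option linter.unusedSectionVars false
set_option linter.unusedVariables false
set_option linter.unusedSimpArgs false
set_option autoImplicit false
set_option linter.style.haveILetI false
set_option maxHeartbeats 400000

/-!
# Injectivity of composition with `α^{λ,N}` on morphisms from a flat scheme
-/

noncomputable section

universe u

open CategoryTheory AlgebraicGeometry

namespace Groth.Agent.Lib.Helper6.SekSuwaInj

/-- On a scheme flat over `Spec R`, a non-zero-divisor of `R` is a non-zero-divisor on global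
sections. -/
theorem eq_zero_of_flat {R : Type u} [CommRing R] {X : Scheme.{u}}
    (π : X ⟶ Spec (CommRingCat.of R)) [Flat π] (r : R) (hr : r ∈ nonZeroDivisors R)
    (s : Γ(X, ⊤))
    (hs : π.appTop.hom ((Scheme.ΓSpecIso (CommRingCat.of R)).inv.hom r) * s = 0) : s = 0 := by
  set r' : Γ(Spec (CommRingCat.of R), ⊤) := (Scheme.ΓSpecIso (CommRingCat.of R)).inv.hom r with hr'
  have hreg : IsSMulRegular Γ(Spec (CommRingCat.of R), ⊤) r' := by
    intro a b hab
    simp only [smul_eq_mul] at hab
    have h1 := congrArg (Scheme.ΓSpecIso (CommRingCat.of R)).hom.hom hab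
    rw [map_mul, map_mul] at h1
    have h2 : (Scheme.ΓSpecIso (CommRingCat.of R)).hom.hom r' = r := by
      rw [hr']
      exact Iso.inv_hom_id_apply (C := CommRingCat) _ _
    rw [h2] at h1
    have h3 := (mem_nonZeroDivisors_iff.mp hr).1
    have h4 : r * ((Scheme.ΓSpecIso (CommRingCat.of R)).hom.hom a -
        (Scheme.ΓSpecIso (CommRingCat.of R)).hom.hom b) = 0 := by
      rw [mul_sub, h1, sub_self]
    have h5 := h3 _ h4
    have h6 : (Scheme.ΓSpecIso (CommRingCat.of R)).hom.hom a =
        (Scheme.ΓSpecIso (CommRingCat.of R)).hom.hom b := sub_eq_zero.mp h5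
    have hinj : Function.Injective (Scheme.ΓSpecIso (CommRingCat.of R)).hom.hom :=
      (ConcreteCategory.bijective_of_isIso (Scheme.ΓSpecIso (CommRingCat.of R)).hom).1
    exact hinj h6
  refine X.sheaf.eq_of_locally_eq' (fun U : X.affineOpens => U.1) ⊤
    (fun U => homOfLE le_top) ?_ s 0 ?_
  · intro x _
    obtain ⟨_, ⟨U, hU, rfl⟩, hxU, -⟩ := X.isBasis_affineOpens.exists_subset_of_mem_open
      (Set.mem_univ x) isOpen_univ
    exact TopologicalSpace.Opens.mem_iSup.mpr ⟨⟨U, hU⟩, hxU⟩
  · intro U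
    have hflat : (π.appLE ⊤ U.1 (by simp)).hom.Flat :=
      Scheme.Hom.flat_appLE π (isAffineOpen_top _) U.2 _
    letI alg : Algebra Γ(Spec (CommRingCat.of R), ⊤) Γ(X, U.1) :=
      (π.appLE ⊤ U.1 (by simp)).hom.toAlgebra
    haveI : Module.Flat Γ(Spec (CommRingCat.of R), ⊤) Γ(X, U.1) := hflat
    have hreg2 : IsSMulRegular Γ(X, U.1) ((π.appLE ⊤ U.1 (by simp)).hom r') :=
      IsSMulRegular.of_flat hreg
    have h1 := congrArg (X.presheaf.map (homOfLE (le_top : U.1 ≤ ⊤)).op).hom hs
    rw [map_mul, map_zero] at h1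
    have h2 : (X.presheaf.map (homOfLE (le_top : U.1 ≤ ⊤)).op).hom (π.appTop.hom r') =
        (π.appLE ⊤ U.1 (by simp)).hom r' := by
      rfl
    rw [h2] at h1
    have h3 : (X.presheaf.map (homOfLE (le_top : U.1 ≤ ⊤)).op).hom s = 0 := by
      apply hreg2
      simp only [smul_eq_mul, mul_zero]
      exact h1
    rw [map_zero]
    exact h3

end Groth.Agent.Lib.Helper6.SekSuwaInj
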