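import Mathlib
import Groth.Prelude.Def_SekSuwa2
import Groth.Agent.Lib.Helper6.SekSuwaInj.Main

set_option linter.unusedSectionVars false
set_option linter.unusedVariables false
set_option linter.unusedSimpArgs false
set_option autoImplicit false
set_option linter.style.haveILetI false
set_option maxHeartbeats 400000

noncomputable section

universe u

open CategoryTheory AlgebraicGeometry

namespace Groth.Agent.Lib.Helper6.SekSuwaInj

/-- The ring map on global sections attached to a morphism to an affine scheme. -/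
def gammaHom {X : Scheme.{u}} {B : CommRingCat.{u}} (k : X ⟶ Spec B) : B ⟶ Γ(X, ⊤) :=
  (Scheme.ΓSpecIso B).inv ≫ k.appTop

theorem gammaHom_comp {X : Scheme.{u}} {A B : CommRingCat.{u}} (k : X ⟶ Spec B) (a : A ⟶ B) :
    gammaHom (k ≫ Spec.map a) = a ≫ gammaHom k := by
  unfold gammaHom
  rw [Scheme.Hom.comp_appTop, ← Category.assoc, ← Scheme.ΓSpecIso_inv_naturality, Category.assoc]

theorem eq_of_gammaHom_eq {X : Scheme.{u}} {B : CommRingCat.{u}} (k k' : X ⟶ Spec B)
    (h : gammaHom k = gammaHom k') : k = k' := by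
  apply ext_of_isAffine
  unfold gammaHom at h
  exact (cancel_epi (Scheme.ΓSpecIso B).inv).mp h

variable (R : Type u) [CommRing R] (lam : R) (N : ℕ) (h : SekSuwa.DivCond lam N)

theorem u_mul_inv :
    (1 + lam • (SekSuwa.AK.t : SekSuwa.AK R lam N h)) * SekSuwa.AK.inv = 1 := by
  have e := congrArg (SekSuwa.AK.mkHom R lam N h) (SekSuwa.A.u_mul_inv (R := R) (lam := lam))
  rw [map_mul, map_one, SekSuwa.A.u, map_add, map_one, map_smul] at e
  exact e

theorem main (G : Over (Spec (CommRingCat.of R))) [Flat G.hom]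
    (f g : G ⟶ SekSuwa.GK R lam N h)
    (hfg : f ≫ SekSuwa.alphaN R lam N h = g ≫ SekSuwa.alphaN R lam N h) : f = g := by
  apply Over.OverMorphism.ext
  let fl : G.left ⟶ Spec (CommRingCat.of (SekSuwa.AK R lam N h)) := f.left
  let gl : G.left ⟶ Spec (CommRingCat.of (SekSuwa.AK R lam N h)) := g.left
  change fl = gl
  apply eq_of_gammaHom_eq
  set φf : CommRingCat.of (SekSuwa.AK R lam N h) ⟶ Γ(G.left, ⊤) := gammaHom fl with hφf
  set φg : CommRingCat.of (SekSuwa.AK R lam N h) ⟶ Γ(G.left, ⊤) := gammaHom gl with hφg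
  set ψ : CommRingCat.of R ⟶ Γ(G.left, ⊤) := gammaHom G.hom with hψ
  -- compatibility with the structure maps
  have hwf : CommRingCat.ofHom (algebraMap R (SekSuwa.AK R lam N h)) ≫ φf = ψ := by
    have h1 : fl ≫ Spec.map (CommRingCat.ofHom (algebraMap R (SekSuwa.AK R lam N h))) = G.hom :=
      Over.w f
    exact (gammaHom_comp fl _).symm.trans (congrArg gammaHom h1)
  have hwg : CommRingCat.ofHom (algebraMap R (SekSuwa.AK R lam N h)) ≫ φg = ψ := by
    have h1 : gl ≫ Spec.map (CommRingCat.ofHom (algebraMap R (SekSuwa.AK R lam N h))) = G.hom :=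
      Over.w g
    exact (gammaHom_comp gl _).symm.trans (congrArg gammaHom h1)
  -- the hypothesis
  have hα : CommRingCat.ofHom (SekSuwa.alphaNHom R lam N h :
        MonoidAlgebra R (Multiplicative (ZMod N)) →+* SekSuwa.AK R lam N h) ≫ φf =
      CommRingCat.ofHom (SekSuwa.alphaNHom R lam N h :
        MonoidAlgebra R (Multiplicative (ZMod N)) →+* SekSuwa.AK R lam N h) ≫ φg := by
    have h1 : fl ≫ Spec.map (CommRingCat.ofHom (SekSuwa.alphaNHom R lam N h :
        MonoidAlgebra R (Multiplicative (ZMod N)) →+* SekSuwa.AK R lam N h)) =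
        gl ≫ Spec.map (CommRingCat.ofHom (SekSuwa.alphaNHom R lam N h :
        MonoidAlgebra R (Multiplicative (ZMod N)) →+* SekSuwa.AK R lam N h)) :=
      congrArg (fun k => k.left) hfg
    exact (gammaHom_comp fl _).symm.trans ((congrArg gammaHom h1).trans (gammaHom_comp gl _))
  have hu : φf.hom (1 + lam • SekSuwa.AK.t) = φg.hom (1 + lam • SekSuwa.AK.t) := by
    have h1 := congrArg (fun k => k.hom
      (MonoidAlgebra.single (Multiplicative.ofAdd (1 : ZMod N)) (1 : R))) hα
    simp only [CommRingCat.hom_comp, CommRingCat.hom_ofHom, RingHom.comp_apply] at h1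
    have h2 := SekSuwa.alphaNHom_single_one R lam N h
    have h3 : (SekSuwa.alphaNHom R lam N h :
        MonoidAlgebra R (Multiplicative (ZMod N)) →+* SekSuwa.AK R lam N h)
        (MonoidAlgebra.single (Multiplicative.ofAdd (1 : ZMod N)) (1 : R)) =
        1 + lam • SekSuwa.AK.t := h2
    rw [h3] at h1
    exact h1
  have hψf : ∀ r : R, φf.hom (algebraMap R _ r) = ψ.hom r := fun r =>
    congrArg (fun k => k.hom r) hwf
  have hψg : ∀ r : R, φg.hom (algebraMap R _ r) = ψ.hom r := fun r =>
    congrArg (fun k => k.hom r) hwg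
  have ht : φf.hom SekSuwa.AK.t = φg.hom SekSuwa.AK.t := by
    have h1 := hu
    rw [map_add, map_add, map_one, map_one, Algebra.smul_def, map_mul, map_mul, hψf, hψg] at h1
    have h2 : ψ.hom lam * (φf.hom SekSuwa.AK.t - φg.hom SekSuwa.AK.t) = 0 := by
      rw [mul_sub, sub_eq_zero]
      exact add_left_cancel h1
    exact sub_eq_zero.mp (eq_zero_of_flat G.hom lam h.nzd _ h2)
  have hinv : φf.hom SekSuwa.AK.inv = φg.hom SekSuwa.AK.inv := by
    have e := u_mul_inv R lam N h
    have e1 := congrArg φf.hom e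
    have e2 := congrArg φg.hom e
    rw [map_mul, map_one] at e1 e2
    calc φf.hom SekSuwa.AK.inv
        = φf.hom SekSuwa.AK.inv * (φg.hom (1 + lam • SekSuwa.AK.t) * φg.hom SekSuwa.AK.inv) := by
          rw [e2, mul_one]
      _ = (φf.hom (1 + lam • SekSuwa.AK.t) * φf.hom SekSuwa.AK.inv) * φg.hom SekSuwa.AK.inv := by
          rw [hu]; ring
      _ = φg.hom SekSuwa.AK.inv := by rw [e1, one_mul]
  letI : Algebra R Γ(G.left, ⊤) := ψ.hom.toAlgebra
  let F : SekSuwa.AK R lam N h →ₐ[R] Γ(G.left, ⊤) :=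
    { toRingHom := φf.hom, commutes' := hψf }
  let F' : SekSuwa.AK R lam N h →ₐ[R] Γ(G.left, ⊤) :=
    { toRingHom := φg.hom, commutes' := hψg }
  have hFF' : F = F' := SekSuwa.AK.algHom_ext ht hinv
  ext x
  exact congrArg (fun χ : SekSuwa.AK R lam N h →ₐ[R] Γ(G.left, ⊤) => χ x) hFF'

end Groth.Agent.Lib.Helper6.SekSuwaInj
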