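import Mathlib
import Groth.Prelude.Def_SekSuwa2
import Groth.Prelude.Def_AlgGrp
import Groth.Agent.Lib.Helper6.SekSuwaInj.Inj

set_option linter.unusedSectionVars false
set_option linter.unusedVariables false
set_option linter.unusedSimpArgs false
set_option autoImplicit false
set_option linter.style.haveILetI false
set_option maxHeartbeats 400000
set_option linter.unnecessarySimpa false

noncomputable section

universe u

open CategoryTheory AlgebraicGeometry MonoidalCategory CartesianMonoidalCategory MonObj Limits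

namespace Groth.Agent.Lib.Helper6.SekSuwaInj

/-- The morphism to an affine scheme attached to a ring map to global sections. -/
def ofGammaHom {X : Scheme.{u}} {B : CommRingCat.{u}} (φ : B ⟶ Γ(X, ⊤)) : X ⟶ Spec B :=
  X.toSpecΓ ≫ Spec.map φ

theorem gammaHom_ofGammaHom {X : Scheme.{u}} {B : CommRingCat.{u}} (φ : B ⟶ Γ(X, ⊤)) :
    gammaHom (ofGammaHom φ) = φ := by
  unfold ofGammaHom
  rw [gammaHom_comp]
  unfold gammaHom
  rw [Scheme.toSpecΓ_appTop, Iso.inv_hom_id, Category.comp_id]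

theorem ofGammaHom_gammaHom {X : Scheme.{u}} {B : CommRingCat.{u}} (k : X ⟶ Spec B) :
    ofGammaHom (gammaHom k) = k :=
  eq_of_gammaHom_eq _ _ (gammaHom_ofGammaHom _)

variable (R : Type u) [CommRing R] (lam : R) (N : ℕ) (h : SekSuwa.DivCond lam N)

theorem psiHom_t : (SekSuwa.psiHom R lam N h) SekSuwa.A.t = SekSuwa.kerGen lam N h := by
  change (SekSuwa.A.lift R (lam ^ N) (SekSuwa.kerGen lam N h) (SekSuwa.A.inv ^ N)
    (SekSuwa.kerGen_rel h)) SekSuwa.A.t = _
  exact SekSuwa.A.lift_t _ _ _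

theorem exists_lift (T : Over (Spec (CommRingCat.of R))) (f : T ⟶ SekSuwa.G R lam)
    (hf : f ≫ SekSuwa.psi R lam N h = toUnit T ≫ η[SekSuwa.G R (lam ^ N)]) :
    ∃ l : T ⟶ SekSuwa.GK R lam N h, l ≫ SekSuwa.incl R lam N h = f := by
  let a : T.left ⟶ Spec (CommRingCat.of (SekSuwa.A R lam)) := f.left
  have hcond : a ≫ Spec.map (CommRingCat.ofHom
      ((SekSuwa.psiHom R lam N h : SekSuwa.A R (lam ^ N) →ₐc[R] SekSuwa.A R lam) :
        SekSuwa.A R (lam ^ N) →+* SekSuwa.A R lam)) =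
      T.hom ≫ Spec.map (CommRingCat.ofHom
        ((Bialgebra.counitAlgHom R (SekSuwa.A R (lam ^ N)) : SekSuwa.A R (lam ^ N) →ₐ[R] R) :
          SekSuwa.A R (lam ^ N) →+* R)) := by
    have h1 := congrArg (fun k => k.left) hf
    have h2 : (toUnit T).left = T.hom := by
      have := Over.w (toUnit T)
      simpa using this
    simp only [Over.comp_left] at h1
    rw [h2] at h1
    exact h1
  have hzero : (gammaHom a).hom (SekSuwa.kerGen lam N h) = 0 := by
    have h1 := congrArg gammaHom hcond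
    rw [gammaHom_comp, gammaHom_comp] at h1
    have h2 := congrArg (fun k => k.hom (SekSuwa.A.t : SekSuwa.A R (lam ^ N))) h1
    simp only [CommRingCat.hom_comp, CommRingCat.hom_ofHom, RingHom.comp_apply] at h2
    have h3 : ((SekSuwa.psiHom R lam N h : SekSuwa.A R (lam ^ N) →ₐc[R] SekSuwa.A R lam) :
        SekSuwa.A R (lam ^ N) →+* SekSuwa.A R lam) SekSuwa.A.t = SekSuwa.kerGen lam N h :=
      psiHom_t R lam N h
    have h4 : ((Bialgebra.counitAlgHom R (SekSuwa.A R (lam ^ N)) :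
        SekSuwa.A R (lam ^ N) →ₐ[R] R) : SekSuwa.A R (lam ^ N) →+* R) SekSuwa.A.t = 0 :=
      SekSuwa.A.counit_t
    rw [h3, h4, map_zero] at h2
    exact h2
  let φbar : CommRingCat.of (SekSuwa.AK R lam N h) ⟶ Γ(T.left, ⊤) :=
    CommRingCat.ofHom (Ideal.Quotient.lift (SekSuwa.kerIdeal lam N h) (gammaHom a).hom (by
      intro x hx
      obtain ⟨c, rfl⟩ := Ideal.mem_span_singleton'.mp hx
      rw [map_mul, hzero, mul_zero]))
  have hbar : CommRingCat.ofHom ((SekSuwa.AK.mkHom R lam N h :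
      SekSuwa.A R lam →ₐc[R] SekSuwa.AK R lam N h) : SekSuwa.A R lam →+* SekSuwa.AK R lam N h) ≫
      φbar = gammaHom a := by
    ext x
    rfl
  have hw : ofGammaHom φbar ≫ (SekSuwa.GK R lam N h).hom = T.hom := by
    apply eq_of_gammaHom_eq
    change gammaHom (ofGammaHom φbar ≫ Spec.map (CommRingCat.ofHom
      (algebraMap R (SekSuwa.AK R lam N h)))) = gammaHom T.hom
    rw [gammaHom_comp, gammaHom_ofGammaHom]
    have h5 : T.hom = a ≫ Spec.map (CommRingCat.ofHom (algebraMap R (SekSuwa.A R lam))) :=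
      (Over.w f).symm
    rw [h5, gammaHom_comp]
    ext r
    rfl
  refine ⟨Over.homMk (ofGammaHom φbar) hw, ?_⟩
  apply Over.OverMorphism.ext
  change ofGammaHom φbar ≫ Spec.map (CommRingCat.ofHom ((SekSuwa.AK.mkHom R lam N h :
      SekSuwa.A R lam →ₐc[R] SekSuwa.AK R lam N h) : SekSuwa.A R lam →+* SekSuwa.AK R lam N h)) = a
  apply eq_of_gammaHom_eq
  rw [gammaHom_comp, gammaHom_ofGammaHom, hbar]

theorem incl_cancel (T : Over (Spec (CommRingCat.of R))) (l l' : T ⟶ SekSuwa.GK R lam N h)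
    (hl : l ≫ SekSuwa.incl R lam N h = l' ≫ SekSuwa.incl R lam N h) : l = l' := by
  apply Over.OverMorphism.ext
  let a : T.left ⟶ Spec (CommRingCat.of (SekSuwa.AK R lam N h)) := l.left
  let a' : T.left ⟶ Spec (CommRingCat.of (SekSuwa.AK R lam N h)) := l'.left
  change a = a'
  have h1 : a ≫ Spec.map (CommRingCat.ofHom ((SekSuwa.AK.mkHom R lam N h :
      SekSuwa.A R lam →ₐc[R] SekSuwa.AK R lam N h) : SekSuwa.A R lam →+* SekSuwa.AK R lam N h)) =
      a' ≫ Spec.map (CommRingCat.ofHom ((SekSuwa.AK.mkHom R lam N h :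
      SekSuwa.A R lam →ₐc[R] SekSuwa.AK R lam N h) : SekSuwa.A R lam →+* SekSuwa.AK R lam N h)) :=
    congrArg (fun k => k.left) hl
  have h2 := congrArg gammaHom h1
  rw [gammaHom_comp, gammaHom_comp] at h2
  apply eq_of_gammaHom_eq
  ext x
  obtain ⟨y, rfl⟩ := Ideal.Quotient.mk_surjective (I := SekSuwa.kerIdeal lam N h) x
  exact congrArg (fun k => k.hom y) h2

theorem isKernel : AlgGrp.IsKernel (SekSuwa.incl R lam N h) (SekSuwa.psi R lam N h) := by
  unfold AlgGrp.IsKernel
  have hw : SekSuwa.incl R lam N h ≫ SekSuwa.psi R lam N h =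
      toUnit (SekSuwa.GK R lam N h) ≫ η[SekSuwa.G R (lam ^ N)] := by
    have h1 := SekSuwa.incl_psi R lam N h
    rw [h1]
    rfl
  have hcone : ∀ s : PullbackCone (SekSuwa.psi R lam N h) η[SekSuwa.G R (lam ^ N)],
      s.fst ≫ SekSuwa.psi R lam N h = toUnit s.pt ≫ η[SekSuwa.G R (lam ^ N)] := by
    intro s
    rw [s.condition]
    congr 1
    exact toUnit_unique _ _
  refine ⟨⟨hw⟩, ⟨PullbackCone.IsLimit.mk hw
    (fun s => (exists_lift R lam N h s.pt s.fst (hcone s)).choose) ?_ ?_ ?_⟩⟩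
  · intro s
    exact (exists_lift R lam N h s.pt s.fst (hcone s)).choose_spec
  · intro s
    exact toUnit_unique _ _
  · intro s m hm1 hm2
    apply incl_cancel
    rw [hm1]
    exact (exists_lift R lam N h s.pt s.fst (hcone s)).choose_spec.symm

end Groth.Agent.Lib.Helper6.SekSuwaInj
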